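import Groth.Agent.Lib.ShStab28.Positive
import Groth.Agent.Lib.ShStab28.Cmp

/-!
# Semistable objects with one reduced polynomial form an abelian subcategory
-/

set_option autoImplicit false
set_option linter.unusedSectionVars false
set_option maxHeartbeats 400000

universe v u

open CategoryTheory CategoryTheory.Limits StabCat
open Polynomial (natDegree leadingCoeff)
open scoped Polynomial

noncomputable section

namespace Groth.Agent.ShStab28.Sys

variable {C : Type u} [Category.{v} C] [Abelian C] (S : Sys C) {E F : C} {d : ℕ}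

theorem redDiff_trans_eq {P Q R : ℚ[X]} (hQ : alpha d Q ≠ 0) (h₁ : redDiff d P Q = 0) (h₂ : redDiff d Q R = 0) :
    redDiff d P R = 0 := by
  have e : alpha d Q • redDiff d P R = alpha d P • redDiff d Q R + alpha d R • redDiff d P Q := by
    simp only [redDiff, smul_sub, smul_smul]
    rw [mul_comm (alpha d Q) (alpha d P), mul_comm (alpha d Q) (alpha d R), mul_comm (alpha d R) (alpha d P)]
    abel
  rw [h₁, h₂, smul_zero, smul_zero, add_zero] at e
  exact (smul_eq_zero.mp e).resolve_left hQ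

theorem redDiff_eq_of_hom (hE : S.SS d d E) (hF : S.SS d d F) (hE0 : ¬ IsZero E) (hF0 : ¬ IsZero F)
    (h : RedEq d (S.hp E) (S.hp F)) (f : E ⟶ F) :
    redDiff d (S.hp (Abelian.image f)) (S.hp E) = 0 ∧ redDiff d (S.hp (Abelian.image f)) (S.hp F) = 0 ∧
      redDiff d (S.hp (kernel f)) (S.hp E) = 0 ∧ redDiff d (S.hp (cokernel f)) (S.hp F) = 0 ∧
      S.hp F = S.hp (Abelian.image f) + S.hp (cokernel f) ∧ S.hp E = S.hp (kernel f) + S.hp (Abelian.image f) := by
  have hI := S.ok_image f hE.1.1 hF.1.1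
  have hQ := S.ok_coker f hE.1.1 hF.1.1
  have haE := hE.1.alpha_pos hE0
  have haF := hF.1.alpha_pos hF0
  have e2 : S.hp F = S.hp (Abelian.image f) + S.hp (cokernel f) := S.hp_epi (cokernel.π f) hF.1.1 hQ
  have e1 : S.hp E = S.hp (kernel f) + S.hp (Abelian.image f) := by
    refine S.hp_of_ker (kernel.ι f) (Abelian.factorThruImage f) ?_ (fun t ht => ?_) hE.1.1 hI
    · rw [← cancel_mono (Abelian.image.ι f), Category.assoc, Abelian.image.fac, kernel.condition, zero_comp]
    · exact ⟨kernel.lift f t (by rw [← Abelian.image.fac f, ← Category.assoc, ht, zero_comp]), kernel.lift_ι _ _ _⟩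
  have hi : redDiff d (S.hp (Abelian.image f)) (S.hp F) = 0 := by
    by_cases h0 : IsZero (Abelian.image f)
    · rw [S.hp_zero h0]; simp [redDiff, alpha_zero]
    · have hiF := S.deg_mono (Abelian.image.ι f) hI hF.1.1
      have h1 : RedLE d (S.hp E) (S.hp (Abelian.image f)) :=
        (le_self_iff hE.1.2.1 (hiF.1.trans hF.1.2.1)).mp (hE.quot (Abelian.factorThruImage f) hI)
      have h2 : RedLE d (S.hp (Abelian.image f)) (S.hp F) :=
        (le_self_iff (hiF.1.trans hF.1.2.1) hF.1.2.1).mp (hF.2 _ (Abelian.image.ι f) inferInstance hI h0)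
      exact redEq_iff.mp (redEq_of_le_of_ge h2
        (redLE_trans haF.le haE (alpha_nonneg (hiF.1.trans hF.1.2.1) (S.lc_nonneg hI))
          (redEq_le (redEq_symm h)) h1))
  have hie : redDiff d (S.hp (Abelian.image f)) (S.hp E) = 0 :=
    redDiff_trans_eq haF.ne' hi (redEq_iff.mp (redEq_symm h))
  have hk : redDiff d (S.hp (kernel f)) (S.hp E) = 0 := by
    have := redDiff_add_fst d (S.hp (kernel f)) (S.hp (Abelian.image f)) (S.hp E)
    rw [← e1, hie, add_zero] at this
    rw [← this]; exact sub_self _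
  have hq : redDiff d (S.hp (cokernel f)) (S.hp F) = 0 := by
    have := redDiff_add_fst d (S.hp (Abelian.image f)) (S.hp (cokernel f)) (S.hp F)
    rw [← e2, hi, zero_add] at this
    rw [← this]; exact sub_self _
  exact ⟨hie, hi, hk, hq, e2, e1⟩

theorem ss_kernel (hE : S.SS d d E) (hF : S.SS d d F) (hE0 : ¬ IsZero E) (hF0 : ¬ IsZero F)
    (h : RedEq d (S.hp E) (S.hp F)) (f : E ⟶ F) :
    S.SS d d (kernel f) ∧ RedEq d (S.hp (kernel f)) (S.hp E) := by
  obtain ⟨-, -, hk, -⟩ := S.redDiff_eq_of_hom hE hF hE0 hF0 h f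
  have hKok := S.ok_ker f hE.1.1 hF.1.1
  have hP := hE.1.sub (kernel.ι f) hKok
  refine ⟨⟨hP, fun G j hj hG hG0 => ?_⟩, redEq_iff.mpr hk⟩
  have hg : (S.hp G).natDegree ≤ d := (S.deg_mono j hG hKok).1.trans hP.2.1
  rw [le_self_iff hg hP.2.1]
  exact redLE_trans (alpha_nonneg hg (S.lc_nonneg hG)) (hE.1.alpha_pos hE0) (alpha_nonneg hP.2.1 (S.lc_nonneg hKok))
    ((le_self_iff hg hE.1.2.1).mp (hE.2 G (j ≫ kernel.ι f) inferInstance hG hG0))
    (redEq_le (redEq_symm (redEq_iff.mpr hk)))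

theorem ss_cokernel (hE : S.SS d d E) (hF : S.SS d d F) (hE0 : ¬ IsZero E) (hF0 : ¬ IsZero F)
    (h : RedEq d (S.hp E) (S.hp F)) (f : E ⟶ F) :
    S.SS d d (cokernel f) ∧ RedEq d (S.hp (cokernel f)) (S.hp E) := by
  obtain ⟨-, hi, -, hq, e2, -⟩ := S.redDiff_eq_of_hom hE hF hE0 hF0 h f
  have haF := hF.1.alpha_pos hF0
  have hQok := S.ok_coker f hE.1.1 hF.1.1
  have hQd : (S.hp (cokernel f)).natDegree ≤ d := (S.deg_epi (cokernel.π f) hF.1.1 hQok).2.trans hF.1.2.1
  have key : ∀ (G : C) (j : G ⟶ cokernel f), Mono j → S.ok G → RedLE d (S.hp G) (S.hp F) := by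
    intro G j hj hG
    haveI := hj
    let g := cokernel.π f ≫ cokernel.π j
    have hR := S.ok_coker j hG hQok
    have hP := S.ok_ker g hF.1.1 hR
    have e3 : S.hp (kernel g) = S.hp (Abelian.image f) + S.hp G := by
      have a1 := S.hp_epi g hF.1.1 hR
      have a2 := S.hp_mono j hG hQok
      rw [e2, a2, ← add_assoc] at a1
      exact (add_right_cancel a1).symm
    have hPd : (S.hp (kernel g)).natDegree ≤ d := (S.deg_mono (kernel.ι g) hP hF.1.1).1.trans hF.1.2.1
    have h1 : RedLE d (S.hp (kernel g)) (S.hp F) := by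
      by_cases h0 : IsZero (kernel g)
      · rw [S.hp_zero h0, redLE_iff]; simp [redDiff, alpha_zero]
      · exact (le_self_iff hPd hF.1.2.1).mp (hF.2 _ (kernel.ι g) inferInstance hP h0)
    rw [redLE_iff] at h1 ⊢
    rwa [e3, redDiff_add_fst, hi, zero_add] at h1
  have hpure : S.Pure (cokernel f) d := by
    refine ⟨hQok, hQd, fun G j hj hG hG0 => ?_⟩
    have hg : (S.hp G).natDegree ≤ d := (S.deg_mono j hG hQok).1.trans hQd
    refine lt_of_le_of_ne (alpha_nonneg hg (S.lc_nonneg hG)) fun ha => ?_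
    have h1 := redLE_iff.mp (key G j hj hG)
    rw [redDiff, ← ha, zero_smul, zero_sub, Polynomial.leadingCoeff_neg, Polynomial.smul_eq_C_mul,
      Polynomial.leadingCoeff_mul, Polynomial.leadingCoeff_C] at h1
    have := mul_pos haF (S.pos hG hG0)
    linarith
  refine ⟨⟨hpure, fun G j hj hG hG0 => ?_⟩, ?_⟩
  · have hg : (S.hp G).natDegree ≤ d := (S.deg_mono j hG hQok).1.trans hQd
    rw [le_self_iff hg hQd]
    exact redLE_trans (alpha_nonneg hg (S.lc_nonneg hG)) haF (alpha_nonneg hQd (S.lc_nonneg hQok))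
      (key G j hj hG) (redEq_le (redEq_symm (redEq_iff.mpr hq)))
  · exact redEq_iff.mpr (redDiff_trans_eq haF.ne' hq (redEq_iff.mp (redEq_symm h)))

end Groth.Agent.ShStab28.Sys

end
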