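import Mathlib.Order.RelSeries
import Mathlib.Data.Fintype.Sort
import Mathlib.Order.Preorder.Chain

/-!
# Finite chains and strictly increasing series
-/

set_option autoImplicit false

namespace Groth.Agent.SemiAb10

variable {α : Type*} [PartialOrder α]

theorem exists_series (C : Finset α) {a : α} (ha : a ∈ C)
    (hC : IsChain (fun A B : α => A ≤ B) (C : Set α)) :
    ∃ s : LTSeries α, ∀ x, x ∈ C ↔ ∃ j, s j = x := by
  classical
  letI : LinearOrder {x // x ∈ C} :=
    { Subtype.partialOrder _ with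
      le_total := fun x y => by
        by_cases h : x.1 = y.1
        · exact Or.inl h.le
        · exact hC x.2 y.2 h
      toDecidableLE := Classical.decRel _ }
  have hpos : 0 < C.card := Finset.card_pos.mpr ⟨a, ha⟩
  let e := monoEquivOfFin {x // x ∈ C} (k := C.card - 1 + 1) (by rw [Fintype.card_coe]; omega)
  refine ⟨LTSeries.mk (C.card - 1) (fun j => (e j).1) (fun i j h => Subtype.coe_lt_coe.mpr (e.strictMono h)),
    fun x => ⟨fun hx => ⟨e.symm ⟨x, hx⟩, ?_⟩, ?_⟩⟩
  · show (e (e.symm ⟨x, hx⟩)).1 = x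
    rw [OrderIso.apply_symm_apply]
  · rintro ⟨j, rfl⟩
    exact (e j).2

theorem series_consec (s : LTSeries α) (i : Fin s.length) (j : Fin (s.length + 1)) :
    ¬ (s i.castSucc < s j ∧ s j < s i.succ) := by
  rintro ⟨h1, h2⟩
  have a1 : (i.castSucc : Fin (s.length + 1)) < j := s.strictMono.lt_iff_lt.mp h1
  have a2 := s.strictMono.lt_iff_lt.mp h2
  rw [Fin.lt_def] at a1 a2
  simp at a1 a2
  omega

theorem series_step_of_consec (s : LTSeries α) {a b : Fin (s.length + 1)} (hab : s a < s b)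
    (h : ∀ j, ¬ (s a < s j ∧ s j < s b)) : ∃ i : Fin s.length, i.castSucc = a ∧ i.succ = b := by
  have hlt := s.strictMono.lt_iff_lt.mp hab
  rw [Fin.lt_def] at hlt
  have hb := b.isLt
  refine ⟨⟨a.val, by omega⟩, rfl, Fin.ext ?_⟩
  by_contra hne
  simp at hne
  refine h ⟨a.val + 1, by omega⟩ ⟨s.strictMono ?_, s.strictMono ?_⟩
  · rw [Fin.lt_def]; simp
  · rw [Fin.lt_def]; show a.val + 1 < b.val; omega

theorem head_eq_bot [OrderBot α] (s : LTSeries α) {j : Fin (s.length + 1)} (h : s j = ⊥) : s.head = ⊥ :=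
  le_bot_iff.mp (h ▸ s.monotone (Fin.zero_le j))

theorem last_eq_top [OrderTop α] (s : LTSeries α) {j : Fin (s.length + 1)} (h : s j = ⊤) : s.last = ⊤ :=
  top_le_iff.mp (h ▸ s.monotone (Fin.le_last j))

end Groth.Agent.SemiAb10
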