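import Groth.Agent.Lib.KFlat.FinLocFree
import Groth.Prelude.Def_StabCat

/-!
# Modules free near a point
-/

set_option autoImplicit false
set_option linter.style.haveILetI false
set_option maxHeartbeats 600000
set_option backward.isDefEq.respectTransparency false

universe u

open CategoryTheory CategoryTheory.Limits AlgebraicGeometry TopologicalSpace

noncomputable section

namespace Groth.Agent.SemiAb10

open Groth.Agent

variable {X : Scheme.{u}}

attribute [local instance] Abelian.hasFiniteBiproducts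

/-- `M` is free on a neighbourhood of `x`. -/
def FreeNear (x : X) (M : X.Modules) : Prop :=
  ∃ (U : X.Opens) (n : ℕ), x ∈ U ∧ Nonempty (M.restrict U.ι ≅ FlatMod.freeMod (U : Scheme.{u}) n)

theorem FreeNear.of_iso {x : X} {M N : X.Modules} (e : M ≅ N) (h : FreeNear x M) : FreeNear x N := by
  obtain ⟨U, n, hU, ⟨i⟩⟩ := h
  exact ⟨U, n, hU, ⟨((Scheme.Modules.restrictFunctor U.ι).mapIso e).symm ≪≫ i⟩⟩

theorem freeNear_of_restrict {x : X} {M : X.Modules} {U : X.Opens} (hx : x ∈ U)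
    (h : FlatMod.IsFinLocFree (M.restrict U.ι)) : FreeNear x M := by
  obtain ⟨W', n, hW', ⟨i⟩⟩ := h ⟨x, hx⟩
  let W : X.Opens := U.ι ''ᵁ W'
  have hr : Set.range W.ι ⊆ Set.range (W'.ι ≫ U.ι) := by
    rw [Scheme.Opens.range_ι]
    rintro y ⟨z, hz, rfl⟩
    exact ⟨⟨z, hz⟩, rfl⟩
  let j := IsOpenImmersion.lift (W'.ι ≫ U.ι) W.ι hr
  have hj : j ≫ W'.ι ≫ U.ι = W.ι := IsOpenImmersion.lift_fac _ _ _
  haveI : IsOpenImmersion j := by
    haveI : IsOpenImmersion (j ≫ W'.ι ≫ U.ι) := by rw [hj]; infer_instance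
    exact IsOpenImmersion.of_comp j (W'.ι ≫ U.ι)
  refine ⟨W, n, ⟨⟨x, hx⟩, hW', rfl⟩, ⟨?_⟩⟩
  exact ((Scheme.Modules.restrictFunctorCongr hj).app M).symm ≪≫
    (Scheme.Modules.restrictFunctorComp j (W'.ι ≫ U.ι)).app M ≪≫
    (Scheme.Modules.restrictFunctor j).mapIso
      ((Scheme.Modules.restrictFunctorComp W'.ι U.ι).app M ≪≫ i) ≪≫ M2.freeModRestrictIso j n

theorem exists_common {x : X} {ι : Type} [Finite ι] (F : ι → X.Modules) (h : ∀ i, FreeNear x (F i)) :
    ∃ U : X.Opens, x ∈ U ∧ ∀ i, FlatMod.IsFinLocFree ((F i).restrict U.ι) := by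
  classical
  cases nonempty_fintype ι
  choose U n hU e using h
  refine ⟨Finset.univ.inf U, ?_, fun i => ?_⟩
  · exact Finset.inf_induction (p := fun V : X.Opens => x ∈ V) trivial (fun a ha b hb => ⟨ha, hb⟩) (fun i _ => hU i)
  · obtain ⟨e'⟩ := e i
    obtain ⟨f⟩ := M2.nonempty_free_mono (Finset.inf_le (Finset.mem_univ i) : Finset.univ.inf U ≤ U i) e'
    exact M2.isFinLocFree_of_iso f.symm (KFlat.Sch.isFinLocFree_freeMod _ _)

/-- A finite sum of modules free near `x` is locally free near `x`. -/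
theorem exists_nhd_sigma {x : X} {k : ℕ} (F : Fin k → X.Modules) (h : ∀ i, FreeNear x (F i)) :
    ∃ U : X.Opens, x ∈ U ∧ FlatMod.IsFinLocFree ((∐ F).restrict U.ι) := by
  obtain ⟨U, hx, hU⟩ := exists_common F h
  have := preservesBiproductsOfShape_of_preservesCoproductsOfShape (J := Fin k) (Scheme.Modules.restrictFunctor U.ι)
  exact ⟨U, hx, M2.isFinLocFree_of_iso (((Scheme.Modules.restrictFunctor U.ι).mapBiproduct F).symm ≪≫
    (Scheme.Modules.restrictFunctor U.ι).mapIso (biproduct.isoCoproduct F))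
    (KFlat.Sch.isFinLocFree_biproduct _ hU)⟩

theorem freeNear_summand {x : X} {k : ℕ} (F : Fin k → X.Modules) {U : X.Opens} (hx : x ∈ U)
    (h : FlatMod.IsFinLocFree ((∐ F).restrict U.ι)) (i : Fin k) : FreeNear x (F i) := by
  refine freeNear_of_restrict hx (M2.isFinLocFree_of_retract h
    ((Scheme.Modules.restrictFunctor U.ι).map (Sigma.ι F i))
    ((Scheme.Modules.restrictFunctor U.ι).map ((biproduct.isoCoproduct F).inv ≫ biproduct.π F i)) ?_)
  rw [← Functor.map_comp]
  simp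

end Groth.Agent.SemiAb10

end
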