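import Groth.Agent.Lib.SemiAb10.Basic
import Groth.Agent.Lib.ShStab28.Filt

/-!
# Filtrations with stable factors of a given class
-/

set_option autoImplicit false
set_option linter.unusedSectionVars false
set_option maxHeartbeats 600000

universe v u

open CategoryTheory CategoryTheory.Limits StabCat
open scoped Polynomial

noncomputable section

namespace Groth.Agent.ShStab28.Sys

variable {C : Type u} [Category.{v} C] [Abelian C] (S : Sys C) {d : ℕ}

/-- Semistable, or zero, with the reduced polynomial of `R`. -/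
def Good (d : ℕ) (R : ℚ[X]) (M : C) : Prop := S.SS d d M ∧ redDiff d (S.hp M) R = 0

theorem ss_of_iso {M N : C} (e : M ≅ N) (h : S.SS d d M) : S.SS d d N := by
  refine ⟨⟨S.ok_iso e h.1.1, by rw [S.hp_iso e h.1.1]; exact h.1.2.1, fun F i hi hF h0 => ?_⟩, fun F i hi hF h0 => ?_⟩
  · exact h.1.2.2 F (i ≫ e.inv) inferInstance hF h0
  · rw [S.hp_iso e h.1.1]
    exact h.2 F (i ≫ e.inv) inferInstance hF h0

theorem Good.of_iso {R : ℚ[X]} {M N : C} (e : M ≅ N) (h : S.Good d R M) : S.Good d R N :=
  ⟨S.ss_of_iso e h.1, by rw [S.hp_iso e h.1.1.1]; exact h.2⟩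

theorem redEq_of_good {R : ℚ[X]} (hR : alpha d R ≠ 0) {M N : C} (hM : S.Good d R M) (hN : S.Good d R N) :
    RedEq d (S.hp M) (S.hp N) :=
  redEq_iff.mpr (redDiff_trans_eq hR hM.2 (by rw [redDiff_comm, hN.2, neg_zero]))

theorem good_ker_coker {R : ℚ[X]} (hR : alpha d R ≠ 0) {M N : C} (hM : S.Good d R M) (hN : S.Good d R N) (f : M ⟶ N) :
    S.Good d R (kernel f) ∧ S.Good d R (cokernel f) := by
  by_cases h : f = 0
  · subst h
    exact ⟨Good.of_iso S kernelZeroIsoSource.symm hM, Good.of_iso S cokernelZeroIsoTarget.symm hN⟩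
  have hM0 : ¬ IsZero M := fun hz => h (hz.eq_of_src _ _)
  have hN0 : ¬ IsZero N := fun hz => h (hz.eq_of_tgt _ _)
  have he := S.redEq_of_good hR hM hN
  obtain ⟨hk, hke⟩ := S.ss_kernel hM.1 hN.1 hM0 hN0 he f
  obtain ⟨hq, hqe⟩ := S.ss_cokernel hM.1 hN.1 hM0 hN0 he f
  exact ⟨⟨hk, redDiff_trans_eq (hM.1.1.alpha_pos hM0).ne' (redEq_iff.mp hke) hM.2⟩,
    ⟨hq, redDiff_trans_eq (hM.1.1.alpha_pos hM0).ne' (redEq_iff.mp hqe) hM.2⟩⟩

theorem epi_to_stable {R : ℚ[X]} (hR : alpha d R ≠ 0) {M F : C} (hM : S.Good d R M) (hF : S.St d d F)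
    (hFR : redDiff d (S.hp F) R = 0) {f : M ⟶ F} (hf : f ≠ 0) : Epi f :=
  S.epi_of_stable hM.1 hF ((le_self_iff hF.1.2.1 hM.1.1.2.1).mpr
    (redEq_le (S.redEq_of_good hR ⟨hF.ss, hFR⟩ hM))) hf

theorem mono_of_stable' {R : ℚ[X]} (hR : alpha d R ≠ 0) {M F : C} (hM : S.Good d R M) (hF : S.St d d F)
    (hFR : redDiff d (S.hp F) R = 0) {f : F ⟶ M} (hf : f ≠ 0) : Mono f :=
  S.mono_of_stable hF hM.1 ((le_self_iff hM.1.1.2.1 hF.1.2.1).mpr
    (redEq_le (S.redEq_of_good hR hM ⟨hF.ss, hFR⟩))) hf

/-- Iterated extensions of objects of a class. -/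
inductive Fil (P : C → Prop) : C → Prop
  | zero {M : C} : IsZero M → Fil P M
  | ext {M F : C} (b : M ⟶ F) : Epi b → Fil P (kernel b) → P F → Fil P M

variable {P : C → Prop}

theorem Fil.of_iso {M N : C} (e : M ≅ N) (h : Fil P M) : Fil P N := by
  induction h generalizing N with
  | zero h => exact Fil.zero (h.of_iso e.symm)
  | @ext M F b hb _ hF ih =>
    refine Fil.ext (e.inv ≫ b) inferInstance (ih ?_) hF
    exact (kernelIsIsoComp e.inv b).symm

variable {R : ℚ[X]} (hR : alpha d R ≠ 0) (hP : ∀ F, P F → S.St d d F ∧ redDiff d (S.hp F) R = 0)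
include hR hP

theorem Fil.sub {M : C} (h : Fil P M) : ∀ (G : C) (j : G ⟶ M), Mono j → S.Good d R M → S.Good d R G → Fil P G := by
  induction h with
  | zero h =>
    intro G j hj _ _
    exact Fil.zero (IsZero.of_mono_eq_zero j (h.eq_of_tgt _ _))
  | @ext M F b hb _ hF ih =>
    intro G j hj hM hG
    haveI := hj
    obtain ⟨hFs, hFR⟩ := hP F hF
    have hA : S.Good d R (kernel b) := (S.good_ker_coker hR hM ⟨hFs.ss, hFR⟩ b).1
    by_cases hz : j ≫ b = 0
    · haveI : Mono (kernel.lift b j hz) := mono_of_mono_fac (kernel.lift_ι b j hz)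
      exact ih G (kernel.lift b j hz) inferInstance hA hG
    · haveI := S.epi_to_stable hR hG hFs hFR hz
      haveI : Mono (kernel.lift b (kernel.ι (j ≫ b) ≫ j) (by rw [Category.assoc, kernel.condition])) :=
        mono_of_mono_fac (kernel.lift_ι b _ _)
      exact Fil.ext (j ≫ b) inferInstance
        (ih (kernel (j ≫ b)) (kernel.lift b (kernel.ι (j ≫ b) ≫ j) _)
          inferInstance hA (S.good_ker_coker hR hG ⟨hFs.ss, hFR⟩ (j ≫ b)).1) hF

theorem Fil.quot {M : C} (h : Fil P M) : ∀ (Q : C) (p : M ⟶ Q), Epi p → S.Good d R M → S.Good d R Q → Fil P Q := by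
  induction h with
  | zero h =>
    intro Q p hp _ _
    exact Fil.zero (IsZero.of_epi_eq_zero p (h.eq_of_src _ _))
  | @ext M F b hb _ hF ih =>
    intro Q p hp hM hQ
    haveI := hb
    haveI := hp
    obtain ⟨hFs, hFR⟩ := hP F hF
    have hA : S.Good d R (kernel b) := (S.good_ker_coker hR hM ⟨hFs.ss, hFR⟩ b).1
    let f := kernel.ι b ≫ p
    let π := cokernel.π f
    have hC : S.Good d R (cokernel f) := (S.good_ker_coker hR hA hQ f).2
    let hb' := Abelian.epiIsCokernelOfKernel _ (kernelIsKernel b)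
    have hw : kernel.ι b ≫ p ≫ π = 0 := (Category.assoc _ _ _).symm.trans (cokernel.condition f)
    let g : F ⟶ cokernel f := hb'.desc (CokernelCofork.ofπ (p ≫ π) hw)
    have hg : b ≫ g = p ≫ π := hb'.fac (CokernelCofork.ofπ (p ≫ π) hw) WalkingParallelPair.one
    haveI : Epi g := epi_of_epi_fac hg
    by_cases hz : g = 0
    · have hπ : π = 0 := by rw [← cancel_epi p, ← hg, hz, comp_zero, comp_zero]
      haveI : Epi f := Abelian.epi_of_cokernel_π_eq_zero f hπ
      exact ih Q f inferInstance hA hQ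
    · haveI := S.mono_of_stable' hR hC hFs hFR hz
      haveI := isIso_of_mono_of_epi g
      have hI : S.Good d R (kernel π) := (S.good_ker_coker hR hQ hC π).1
      haveI : Epi (Abelian.factorThruImage f) := inferInstance
      have hFilI : Fil P (kernel π) := ih (Abelian.image f) (Abelian.factorThruImage f) inferInstance hA hI
      haveI : Epi (π ≫ inv g) := epi_comp _ _
      exact Fil.ext (π ≫ inv g) inferInstance (Fil.of_iso (kernelCompMono π (inv g)).symm hFilI) hF

omit hR hP

theorem Fil.of_series {E : C} (s : LTSeries (Subobject E)) (hh : s.head = ⊥) (hl : s.last = ⊤)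
    (hf : ∀ i, P (factor s i)) : Fil P E := by
  have key : ∀ j, Fil P ((s j : Subobject E) : C) := by
    intro j
    induction j using Fin.induction with
    | zero =>
      refine Fil.zero ?_
      show IsZero ((s.head : Subobject E) : C)
      rw [hh]
      exact isZero_bot_sub E
    | succ i ih =>
      let a := Subobject.ofLE _ _ (s.step i).le
      refine Fil.ext (cokernel.π a) inferInstance (Fil.of_iso ?_ ih) (hf i)
      exact IsLimit.conePointUniqueUpToIso (Abelian.monoIsKernelOfCokernel _ (cokernelIsCokernel a))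
        (limit.isLimit _)
  have := key (Fin.last _)
  rw [show s (Fin.last _) = ⊤ from hl] at this
  exact Fil.of_iso (asIso (⊤ : Subobject E).arrow) this

/-- The cokernel of an inclusion only depends on the subobjects. -/
def cokerCongr {E : C} {A B A' B' : Subobject E} (h : A ≤ B) (h' : A' ≤ B') (hA : A = A') (hB : B = B') :
    cokernel (Subobject.ofLE A B h) ≅ cokernel (Subobject.ofLE A' B' h') := by
  subst hA hB; exact Iso.refl _

theorem Fil.exists_series (hP' : ∀ F, P F → ¬ IsZero F) (hiso : ∀ {F G : C}, (F ≅ G) → P F → P G) {M : C}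
    (h : Fil P M) :
    ∃ s : LTSeries (Subobject M), s.head = ⊥ ∧ s.last = ⊤ ∧ ∀ i, P (factor s i) := by
  induction h with
  | @zero M h =>
    refine ⟨RelSeries.singleton _ ⊥, rfl, ?_, fun i => i.elim0⟩
    show (⊥ : Subobject M) = ⊤
    exact le_antisymm bot_le (Subobject.le_of_comm 0 ((h.eq_of_tgt _ _)))
  | @ext M F b hb _ hF ih =>
    haveI := hb
    obtain ⟨t, hh, hl, hf⟩ := ih
    let a := kernel.ι b
    let m : Fin (t.length + 1) → Subobject M := fun j => Subobject.mk ((t j).arrow ≫ a)
    have hle : ∀ {j l}, t j ≤ t l → m j ≤ m l := fun {j l} h =>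
      Subobject.mk_le_mk_of_comm (Subobject.ofLE _ _ h) (by rw [← Category.assoc, Subobject.ofLE_arrow])
    have hge : ∀ {j l}, m j ≤ m l → t j ≤ t l := fun {j l} h => by
      refine Subobject.le_of_comm (Subobject.ofMkLEMk _ _ h) ?_
      rw [← cancel_mono a, Category.assoc]
      exact Subobject.ofMkLEMk_comp h
    have htop : ∀ j, m j < ⊤ := fun j => lt_of_le_of_ne le_top fun he => by
      haveI : IsIso ((t j).arrow ≫ a) := Subobject.isIso_iff_mk_eq_top _ |>.mpr he
      haveI : Epi a := epi_of_epi ((t j).arrow) a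
      exact hP' F hF (IsZero.of_epi_eq_zero b (by rw [← cancel_epi a, kernel.condition, comp_zero]))
    let f : Fin (t.length + 2) → Subobject M := Fin.snoc m ⊤
    have hf1 : ∀ j : Fin (t.length + 1), f j.castSucc = m j := fun j => Fin.snoc_castSucc ..
    have hf2 : f (Fin.last (t.length + 1)) = ⊤ := Fin.snoc_last ..
    have hmono : StrictMono f := Fin.strictMono_iff_lt_succ.mpr fun i => by
      induction i using Fin.lastCases with
      | last => rw [hf1, Fin.succ_last, hf2]; exact htop _
      | cast j =>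
        rw [hf1, ← Fin.castSucc_succ, hf1]
        exact lt_of_le_not_ge (hle (t.step j).le) fun h => (t.step j).not_ge (hge h)
    refine ⟨LTSeries.mk (t.length + 1) f hmono, ?_, hf2, fun i => ?_⟩
    · show f (Fin.castSucc 0) = ⊥
      rw [hf1]
      show Subobject.mk ((t.head).arrow ≫ a) = ⊥
      refine le_bot_iff.mp (Subobject.mk_le_of_comm (0 : _ ⟶ ((⊥ : Subobject M) : C)) ?_)
      exact (by rw [hh]; exact isZero_bot_sub _ : IsZero ((t.head : Subobject (kernel b)) : C)).eq_of_src _ _
    · induction i using Fin.lastCases with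
      | cast j =>
        refine hiso ?_ (hf j)
        refine ?_ ≪≫ cokerCongr (hle (t.step j).le) ((LTSeries.mk (t.length + 1) f hmono).step j.castSucc).le
          (hf1 j.castSucc).symm (by show m j.succ = f j.castSucc.succ; rw [← Fin.castSucc_succ, hf1])
        exact cokernel.mapIso _ _ (Subobject.underlyingIso _).symm (Subobject.underlyingIso _).symm (by
          rw [← cancel_mono (m j.succ).arrow]
          simp only [Category.assoc, Iso.symm_hom, Subobject.ofLE_arrow, Subobject.underlyingIso_arrow, m]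
          rw [← Category.assoc, Subobject.ofLE_arrow])
      | last =>
        refine hiso ?_ hF
        refine ?_ ≪≫ cokerCongr (le_top : Subobject.mk a ≤ ⊤)
          ((LTSeries.mk (t.length + 1) f hmono).step (Fin.last t.length)).le ?_ (by
            show ⊤ = f (Fin.last t.length).succ
            rw [Fin.succ_last, hf2])
        · refine ((Abelian.epiIsCokernelOfKernel (KernelFork.ofι (kernel.ι b) (kernel.condition b))
              (kernelIsKernel b)).coconePointUniqueUpToIso (cokernelIsCokernel a)) ≪≫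
            cokernel.mapIso a _ (Subobject.underlyingIso a).symm (asIso (⊤ : Subobject M).arrow).symm ?_
          rw [← cancel_mono (⊤ : Subobject M).arrow]
          simp
        · show Subobject.mk a = f (Fin.last t.length).castSucc
          rw [hf1]
          show Subobject.mk a = Subobject.mk (t.last.arrow ≫ a)
          rw [hl]
          exact (Subobject.mk_eq_mk_of_comm _ _ (asIso (⊤ : Subobject (kernel b)).arrow) rfl).symm

end Groth.Agent.ShStab28.Sys

end
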