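import Groth.Agent.Lib.ShStab28.Positive
import Groth.Agent.Lib.ShStab28.Cmp
import Groth.Agent.Lib.Twist.Tensor
import Groth.Agent.Lib.TensorNat17.Basic
import Groth.Agent.Lib.NumPoly18.SurfProj
import Groth.Prelude.Def_W4c2simpsonmod1HP

/-!
# Hilbert polynomials on projective space at all integers
-/

set_option autoImplicit false
set_option linter.style.haveILetI false
set_option maxHeartbeats 800000
set_option backward.isDefEq.respectTransparency false
set_option backward.isDefEq.respectTransparency.types false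

universe u

open CategoryTheory CategoryTheory.Limits AlgebraicGeometry StabCat

noncomputable section

namespace Groth.Agent.SemiAb10

open Groth.Agent

variable {k : Type u} [Field k] {n : ℕ}

local notation "ℙ" => CohB1.ProjSpace n k
local notation "O1" => Twist.twistProjSpace n k 1

theorem isAmple_O1 : CohB1.IsAmple (X := ℙ) O1 :=
  Twist.isAmple_twist (CohB1.polyGrading n k) _
    (fun i => ProjSpace.X_mem' n k i) (ProjSpace.irrelevant_le_span n k) (d := 1) one_pos

/-- `F(i) ⊗ O(1)^m ≅ F(i+m)`. -/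
theorem nonempty_twist_pow (F : (ℙ).Modules) (i : ℤ) (m : ℕ) :
    Nonempty (CohB1.tensorMod (CohB1.tensorMod F (Twist.twistProjSpace n k i)) (CohB1.tensorPow O1 m) ≅
      CohB1.tensorMod F (Twist.twistProjSpace n k (i + m))) := by
  obtain ⟨p⟩ := Twist.nonempty_iso_tensorPow (CohB1.polyGrading n k) (Twist.iSup_basicOpen_one n k) m
  obtain ⟨t⟩ := Twist.nonempty_tensor_iso (CohB1.polyGrading n k) i (m : ℤ) (Twist.iSup_basicOpen_one n k)
  exact ⟨M2.tensorAssoc _ _ _ ≪≫ M2.tensorIso (Iso.refl F) (M2.tensorIso (Iso.refl _) p.symm ≪≫ t)⟩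

theorem nonempty_pow (F : (ℙ).Modules) (m : ℕ) :
    Nonempty (CohB1.tensorMod F (CohB1.tensorPow O1 m) ≅ CohB1.tensorMod F (Twist.twistProjSpace n k (m : ℤ))) := by
  obtain ⟨p⟩ := Twist.nonempty_iso_tensorPow (CohB1.polyGrading n k) (Twist.iSup_basicOpen_one n k) m
  exact ⟨M2.tensorIso (Iso.refl F) p.symm⟩

/-- The Hilbert polynomial computes the Euler characteristic of every twist. -/
theorem euler_twist [IsProper ((ℙ) ↘ Spec (CommRingCat.of k))] {F : (ℙ).Modules} (hF : Coh.IsCoh F) (m : ℤ) :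
    (Curv2.euler k ℙ (CohB1.tensorMod F (Twist.twistProjSpace n k m)) : ℚ) =
      (ShStab28.hilb k ℙ O1 F).eval (m : ℚ) := by
  have hi : PicF.IsInvertible O1 := Twist.isInvertible_twistProjSpace n k 1
  have h0 : ∀ j : ℕ, (Curv2.euler k ℙ (CohB1.tensorMod F (Twist.twistProjSpace n k (j : ℤ))) : ℚ) =
      (ShStab28.hilb k ℙ O1 F).eval (j : ℚ) := fun j => by
    obtain ⟨e⟩ := nonempty_pow F j
    rw [← CurveCoh17.euler_iso e]
    exact ShStab28.hilb_spec k hi hF j
  obtain ⟨j, rfl | rfl⟩ := Int.eq_nat_or_neg m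
  · rw [h0 j]; simp
  set G := CohB1.tensorMod F (Twist.twistProjSpace n k (-(j : ℤ))) with hG
  have hGc : Coh.IsCoh G := CurveCoh17.isCoh_tensor hF
    (CohFound.isCoh_of_isFinLocFree (M2.isFinLocFree_of_isInvertible (Twist.isInvertible_twistProjSpace n k _)))
  have hsh : ∀ i : ℕ, (Curv2.euler k ℙ (ShStab.twist ℙ O1 G i) : ℚ) =
      (Curv2.euler k ℙ (CohB1.tensorMod F (Twist.twistProjSpace n k (-(j : ℤ) + i))) : ℚ) := fun i => by
    obtain ⟨e⟩ := nonempty_twist_pow F (-(j : ℤ)) i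
    exact_mod_cast (CurveCoh17.euler_iso e : Curv2.euler k ℙ (ShStab.twist ℙ O1 G i) = _)
  have hp : ShStab28.hilb k ℙ O1 G = (ShStab28.hilb k ℙ O1 F).comp (Polynomial.X - Polynomial.C (j : ℚ)) := by
    refine Polynomial.eq_of_infinite_eval_eq _ _ (Set.Infinite.mono (s := Set.range fun i : ℕ => ((i + j : ℕ) : ℚ)) ?_
      (Set.infinite_range_of_injective fun a b h => by simpa using h))
    rintro _ ⟨i, rfl⟩
    show (ShStab28.hilb k ℙ O1 G).eval ((i + j : ℕ) : ℚ) = _
    rw [← ShStab28.hilb_spec k hi hGc (i + j), hsh, show -(j : ℤ) + ((i + j : ℕ) : ℤ) = (i : ℤ) by push_cast; ring, h0 i]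
    simp
  have h1 := hsh 0
  rw [ShStab28.hilb_spec k hi hGc 0, hp] at h1
  simp only [Nat.cast_zero, add_zero, Polynomial.eval_comp, Polynomial.eval_sub, Polynomial.eval_X,
    Polynomial.eval_C, zero_sub] at h1
  rw [← h1]; simp

theorem eq_hilb [IsProper ((ℙ) ↘ Spec (CommRingCat.of k))] {F : (ℙ).Modules} (hF : Coh.IsCoh F) {φ : Polynomial ℚ}
    (h : ∀ m : ℤ, (Curv2.euler k ℙ (CohB1.tensorMod F (Twist.twistProjSpace n k m)) : ℚ) = φ.eval (m : ℚ)) :
    φ = ShStab28.hilb k ℙ O1 F := by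
  refine Polynomial.eq_of_infinite_eval_eq _ _ (Set.Infinite.mono (s := Set.range (Nat.cast : ℕ → ℚ)) ?_
    (Set.infinite_range_of_injective Nat.cast_injective))
  rintro _ ⟨m, rfl⟩
  show φ.eval (m : ℚ) = (ShStab28.hilb k ℙ O1 F).eval (m : ℚ)
  have h1 := (h m).symm.trans (euler_twist hF m)
  simpa using h1

theorem w4_redLE_iff {d : ℕ} {A B : Polynomial ℚ} (hA : 0 < alpha d A) (hB : 0 < alpha d B) :
    W4c2simpsonmod1.RedLE d A B ↔ RedLE d A B := by
  have key : ∀ x : ℚ, A.eval x / alpha d A ≤ B.eval x / alpha d B ↔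
      (alpha d B • A).eval x ≤ (alpha d A • B).eval x := fun x => by
    rw [div_le_div_iff₀ hA hB]; simp [mul_comm]
  constructor
  · rintro ⟨N, hN⟩
    refine ⟨N.toNat, fun m hm => ?_⟩
    have h := (key _).mp (hN (m : ℤ) (by omega))
    simpa using h
  · rintro ⟨N, hN⟩
    refine ⟨N, fun m hm => ?_⟩
    obtain ⟨i, rfl⟩ : ∃ i : ℕ, m = (i : ℤ) := ⟨m.toNat, by omega⟩
    have h := (key _).mpr (hN i (by omega))
    simpa [alpha, W4c2simpsonmod1.rankOf] using h

theorem w4_redLT_iff {d : ℕ} {A B : Polynomial ℚ} (hA : 0 < alpha d A) (hB : 0 < alpha d B) :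
    W4c2simpsonmod1.RedLT d A B ↔ RedLT d A B := by
  have key : ∀ x : ℚ, A.eval x / alpha d A < B.eval x / alpha d B ↔
      (alpha d B • A).eval x < (alpha d A • B).eval x := fun x => by
    rw [div_lt_div_iff₀ hA hB]; simp [mul_comm]
  constructor
  · rintro ⟨N, hN⟩
    refine ⟨N.toNat, fun m hm => ?_⟩
    have h := (key _).mp (hN (m : ℤ) (by omega))
    simpa using h
  · rintro ⟨N, hN⟩
    refine ⟨N, fun m hm => ?_⟩
    obtain ⟨i, rfl⟩ : ∃ i : ℕ, m = (i : ℤ) := ⟨m.toNat, by omega⟩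
    have h := (key _).mpr (hN i (by omega))
    simpa [alpha, W4c2simpsonmod1.rankOf] using h

end Groth.Agent.SemiAb10

end
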