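import Groth.Agent.Lib.TFOne27.Special
import Groth.Agent.Lib.TFOne27.Modif
import Groth.Agent.Lib.TensorMod.PullSupport
import Mathlib.RingTheory.Nakayama
import Mathlib.LinearAlgebra.TensorProduct.RightExactness

/-!
# Maps vanishing at a point
-/

set_option autoImplicit false
set_option linter.style.haveILetI false
set_option maxHeartbeats 800000
set_option backward.isDefEq.respectTransparency false

universe u

open CategoryTheory CategoryTheory.Limits AlgebraicGeometry TopologicalSpace TensorProduct

noncomputable section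

namespace Groth.Agent.SemiAb10

open Groth.Agent Groth.Agent.CurveCoh17

/-- A closed subset of full dimension of an irreducible space is everything. -/
theorem eq_univ_of_dim {α : Type u} [TopologicalSpace α] [IrreducibleSpace α] {Z : Set α} (hZ : IsClosed Z) {d : ℕ}
    (hX : topologicalKrullDim α = (d : WithBot ℕ∞)) (h : topologicalKrullDim Z = (d : WithBot ℕ∞)) : Z = Set.univ := by
  by_contra hne
  haveI : Nonempty (IrreducibleCloseds Z) := by
    by_contra h0
    rw [not_nonempty_iff] at h0
    rw [topologicalKrullDim, Order.krullDim_eq_bot] at h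
    exact WithBot.bot_ne_coe h
  obtain ⟨p, hp⟩ := Order.le_krullDim_iff.mp (h.ge : (d : WithBot ℕ∞) ≤ Order.krullDim (IrreducibleCloseds Z))
  let emb := IrreducibleCloseds.map (f := (Subtype.val : Z → α)) continuous_subtype_val
  have hemb : StrictMono emb := IrreducibleCloseds.map_strictMono_of_isInducing Topology.IsInducing.subtypeVal
  let q := p.map emb hemb
  let top : IrreducibleCloseds α := ⟨Set.univ, IrreducibleSpace.isIrreducible_univ α, isClosed_univ⟩
  have hlt : q.last < top := by
    refine lt_of_le_of_ne (fun x _ => Set.mem_univ x) fun he => hne (Set.eq_univ_iff_forall.mpr fun x => ?_)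
    have hx : x ∈ (q.last : Set α) := by rw [he]; exact Set.mem_univ x
    refine (closure_minimal ?_ hZ) hx
    rintro _ ⟨y, -, rfl⟩
    exact y.2
  have h1 := Order.LTSeries.length_le_krullDim (q.snoc top hlt)
  rw [RelSeries.snoc_length, show q.length = d from hp] at h1
  rw [topologicalKrullDim] at hX
  rw [hX] at h1
  norm_cast at h1
  omega

theorem mem_smul_top_of_one_tmul_eq_zero {A B : Type u} [CommRing A] [CommRing B] [Algebra A B]
    (hs : Function.Surjective (algebraMap A B)) {N : Type u} [AddCommGroup N] [Module A N] {b : N}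
    (h : (1 : B) ⊗ₜ[A] b = 0) : b ∈ RingHom.ker (algebraMap A B) • (⊤ : Submodule A N) := by
  have hex := rTensor_exact N (f := (RingHom.ker (algebraMap A B)).subtype) (g := Algebra.linearMap A B)
    (fun r => ⟨fun hr => ⟨⟨r, hr⟩, rfl⟩, by rintro ⟨s, rfl⟩; exact s.2⟩) hs
  obtain ⟨t, ht⟩ := (hex ((1 : A) ⊗ₜ b)).mp (by simpa using h)
  have : b = TensorProduct.lid A N ((RingHom.ker (algebraMap A B)).subtype.rTensor N t) := by simp [ht]
  rw [this]
  clear this ht
  induction t using TensorProduct.induction_on with
  | zero => simp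
  | tmul r n => simpa using Submodule.smul_mem_smul r.2 Submodule.mem_top
  | add x y hx hy => rw [map_add, map_add]; exact add_mem hx hy

/-- A map vanishing at a point, with free cokernel there, has zero source there. -/
theorem subsingleton_stalk_of_pullback_eq_zero {X Y : Scheme.{u}} (ξ : Y ⟶ X) [IsPreimmersion ξ] (y : Y)
    {I F : X.Modules} (a : I ⟶ F) [Mono a] (hI : Coh.IsCoh I)
    [Module.Free (X.presheaf.stalk (ξ y)) ((cokernel a).presheaf.stalk (ξ y))]
    (h : (Scheme.Modules.pullback ξ).map a = 0) : Subsingleton (I.presheaf.stalk (ξ y) : Type u) := by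
  let α := stalkLin a (ξ y)
  let γ := stalkLin (cokernel.π a) (ξ y)
  have hinj : Function.Injective α := TFOne27.injective_stalkLin a (ξ y)
  have hγ : Function.Surjective γ := TFOne27.surjective_stalkLin (cokernel.π a) (ξ y)
  obtain ⟨s, hs⟩ := Module.projective_lifting_property γ LinearMap.id hγ
  have hker : ∀ b, γ b = 0 → ∃ i, α i = b := fun b hb =>
    TFOne27.exact_stalk (f := a) (g := cokernel.π a) (w := cokernel.condition a)
      (ShortComplex.exact_cokernel a) (ξ y) b hb
  have hm : ∀ i, α i ∈ IsLocalRing.maximalIdeal (X.presheaf.stalk (ξ y)) •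
      (⊤ : Submodule (X.presheaf.stalk (ξ y)) (F.presheaf.stalk (ξ y) : Type u)) := fun i => by
    have h1 : M2.stalkUnit ξ y F (α i) = 0 := by
      rw [← TFOne27.stalkUnit_natural ξ a y i]
      show (M1.stalkAb y).map ((Scheme.Modules.pullback ξ).map a) _ = 0
      rw [h, Functor.map_zero]
      rfl
    have h2 : (1 : Y.presheaf.stalk y) ⊗ₜ[X.presheaf.stalk (ξ y)] (α i) = 0 := by
      apply (M2.pullStalkEquiv ξ y F).injective
      rw [map_zero, ← h1]
      exact LinearMap.liftBaseChange_one_tmul _ _ _
    refine Submodule.smul_mono_left ?_ (mem_smul_top_of_one_tmul_eq_zero (fun b => ξ.stalkMap_surjective y b) h2)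
    exact IsLocalRing.le_maximalIdeal (RingHom.ker_ne_top _)
  have hρ : ∀ b, ∃ i, α i = b - s (γ b) := fun b => hker _ (by
    rw [map_sub, show γ (s (γ b)) = γ b from LinearMap.congr_fun hs (γ b), sub_self])
  choose ρ hρ using hρ
  let r : (F.presheaf.stalk (ξ y) : Type u) →ₗ[X.presheaf.stalk (ξ y)] (I.presheaf.stalk (ξ y) : Type u) :=
    { toFun := ρ
      map_add' := fun b c => hinj (by rw [map_add, hρ, hρ, hρ, map_add, map_add]; abel)
      map_smul' := fun c b => hinj (by rw [RingHom.id_apply, map_smul, hρ, hρ, map_smul, map_smul, smul_sub]) }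
  have hr : ∀ i, r (α i) = i := fun i => hinj (by
    show α (ρ (α i)) = α i
    rw [hρ, show γ (α i) = 0 from ?_, map_zero, sub_zero]
    show stalkLin (cokernel.π a) (ξ y) (stalkLin a (ξ y) i) = 0
    show ((M1.stalkAb (ξ y)).map a ≫ (M1.stalkAb (ξ y)).map (cokernel.π a)) i = 0
    rw [← Functor.map_comp, cokernel.condition, Functor.map_zero]
    rfl)
  haveI := M1.finite_stalk hI.1 hI.2 (ξ y)
  have htop : (⊤ : Submodule (X.presheaf.stalk (ξ y)) (I.presheaf.stalk (ξ y) : Type u)) ≤
      IsLocalRing.maximalIdeal (X.presheaf.stalk (ξ y)) • ⊤ := fun i _ => by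
    have := Submodule.mem_map_of_mem (f := r) (hm i)
    rw [hr, Submodule.map_smul''] at this
    exact SetLike.le_def.mp (Submodule.smul_mono le_rfl le_top) this
  have := Submodule.eq_bot_of_le_smul_of_le_jacobson_bot _ _ Module.Finite.fg_top htop
    (IsLocalRing.maximalIdeal_le_jacobson _)
  exact subsingleton_of_forall_eq 0 fun i => (Submodule.mem_bot _).mp (this ▸ Submodule.mem_top (x := i))

/-- An extension of modules with free stalks has free stalk. -/
theorem free_stalk_of_epi {X : Scheme.{u}} {M F : X.Modules} (b : M ⟶ F) [Epi b] (x : X)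
    [Module.Free (X.presheaf.stalk x) ((kernel b).presheaf.stalk x)]
    [Module.Free (X.presheaf.stalk x) (F.presheaf.stalk x)] :
    Module.Free (X.presheaf.stalk x) (M.presheaf.stalk x) := by
  let α := stalkLin (kernel.ι b) x
  let γ := stalkLin b x
  have hinj : Function.Injective α := TFOne27.injective_stalkLin (kernel.ι b) x
  have hex : Function.Exact α γ := fun c => ⟨fun hc => TFOne27.exact_kernel_stalk b x c hc, by
    rintro ⟨a, rfl⟩
    show ((M1.stalkAb x).map (kernel.ι b) ≫ (M1.stalkAb x).map b) a = 0
    rw [← Functor.map_comp, kernel.condition, Functor.map_zero]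
    rfl⟩
  obtain ⟨l, hl⟩ := Module.projective_lifting_property γ LinearMap.id (TFOne27.surjective_stalkLin b x)
  obtain ⟨e, -⟩ := hex.splitSurjectiveEquiv hinj ⟨l, hl⟩
  exact Module.Free.of_equiv e.symm

end Groth.Agent.SemiAb10

end
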