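import Groth.Agent.Lib.SemiAb10.RigidAlg
import Groth.Agent.Lib.SemiAb10.Point
import Groth.Agent.Lib.ThetaGrp19.Scalar
import Groth.Agent.Lib.Defo13.Basic
import Groth.Prelude.Def_FlatMod2

/-!
# Rigidity of morphisms of flat modules over an affine base
-/

set_option autoImplicit false
set_option linter.style.haveILetI false
set_option maxHeartbeats 1000000
set_option backward.isDefEq.respectTransparency false

open CategoryTheory CategoryTheory.Limits AlgebraicGeometry TopologicalSpace IsLocalRing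

noncomputable section

namespace Groth.Agent.SemiAb10.Rigid

open Groth.Agent Groth.Agent.CurveCoh17

attribute [local instance] Abelian.hasFiniteBiproducts

variable {S X : Scheme.{0}} (g : X ⟶ S)

theorem stalkLin_comp {M N P : X.Modules} (f : M ⟶ N) (h : N ⟶ P) (x : X) (v : M.presheaf.stalk x) :
    stalkLin (f ≫ h) x v = stalkLin h x (stalkLin f x v) :=
  ConcreteCategory.congr_hom ((M1.stalkAb x).map_comp f h) v

theorem stalkLin_zero {M N : X.Modules} (x : X) (v : M.presheaf.stalk x) : stalkLin (0 : M ⟶ N) x v = 0 := by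
  show (M1.stalkAb x).map 0 v = 0
  rw [Functor.map_zero]
  rfl

theorem eq_zero_of_stalk {M N : X.Modules} (f : M ⟶ N) (h : ∀ x v, stalkLin f x v = 0) : f = 0 :=
  Defo13.hom_eq_zero_of_stalk f h

theorem stalk_biproduct {ι : Type} [Fintype ι] (M : ι → X.Modules) (x : X) (v : (⨁ M).presheaf.stalk x) :
    v = ∑ i, stalkLin (biproduct.ι M i) x (stalkLin (biproduct.π M i) x v) := by
  classical
  have h : (M1.stalkAb x).map (∑ i, biproduct.π M i ≫ biproduct.ι M i) = 𝟙 ((M1.stalkAb x).obj (⨁ M)) := by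
    rw [biproduct.total]; exact (M1.stalkAb x).map_id _
  rw [Functor.map_sum] at h
  have h' : ∀ v : ((M1.stalkAb x).obj (⨁ M)), v = ∑ i, (M1.stalkAb x).map (biproduct.π M i ≫ biproduct.ι M i) v :=
    fun v => by
      have := ConcreteCategory.congr_hom h v
      let ev : (((M1.stalkAb x).obj (⨁ M)) ⟶ ((M1.stalkAb x).obj (⨁ M))) →+ ((M1.stalkAb x).obj (⨁ M)) :=
        AddMonoidHom.mk' (fun f => f v) fun f f' => rfl
      exact this.symm.trans (map_sum ev _ _)
  exact (h' v).trans (Finset.sum_congr rfl fun i _ => stalkLin_comp _ _ x v)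

/-- A global function on `S` in the stalk at a point of `X`. -/
def at' (x : X) : Γ(S, ⊤) →+* X.presheaf.stalk x :=
  (g.stalkMap x).hom.comp (S.presheaf.germ ⊤ (g x) trivial).hom

/-- Multiplication by a function on `S`. -/
def mul (M : X.Modules) (c : Γ(S, ⊤)) : M ⟶ M := ThetaGrp19.smulHom M (g.appTop c)

theorem stalkLin_mul (M : X.Modules) (c : Γ(S, ⊤)) (x : X) (v : M.presheaf.stalk x) :
    stalkLin (mul g M c) x v = at' g x c • v := by
  obtain ⟨U, hU, s, rfl⟩ := M.presheaf.germ_exist v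
  show (M1.stalkAb x).map _ _ = _
  rw [M1.germ_naturality, mul, ThetaGrp19.smulHom_app, M1.germ_smul]
  congr 1
  rw [at', RingHom.comp_apply]
  refine (X.presheaf.germ_res_apply _ _ _ _).trans ?_
  exact (Scheme.Hom.germ_stalkMap_apply g ⊤ x trivial c).symm

theorem mul_naturality {M N : X.Modules} (f : M ⟶ N) (c : Γ(S, ⊤)) : mul g M c ≫ f = f ≫ mul g N c :=
  ThetaGrp19.smulHom_naturality f _

variable {ι : Type} [Fintype ι]

/-- The sum of the multiplications by a family of functions. -/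
def fam (M : X.Modules) (c : ι → Γ(S, ⊤)) : (⨁ fun _ : ι => M) ⟶ M := biproduct.desc fun i => mul g M (c i)

theorem fam_stalk (M : X.Modules) (c : ι → Γ(S, ⊤)) (x : X) (v : (⨁ fun _ : ι => M).presheaf.stalk x) :
    stalkLin (fam g M c) x v = ∑ i, at' g x (c i) • stalkLin (biproduct.π (fun _ : ι => M) i) x v := by
  conv_lhs => rw [stalk_biproduct (fun _ : ι => M) x v]
  rw [map_sum]
  exact Finset.sum_congr rfl fun i _ => by rw [← stalkLin_comp, fam, biproduct.ι_desc, stalkLin_mul]

/-- The quotient by a family of functions. -/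
abbrev Q (M : X.Modules) (c : ι → Γ(S, ⊤)) : X.Modules := cokernel (fam g M c)

abbrev q (M : X.Modules) (c : ι → Γ(S, ⊤)) : M ⟶ Q g M c := cokernel.π _

theorem q_stalk_surjective (M : X.Modules) (c : ι → Γ(S, ⊤)) (x : X) : Function.Surjective (stalkLin (q g M c) x) :=
  TFOne27.surjective_stalkLin _ x

theorem q_stalk_eq_zero (M : X.Modules) (c : ι → Γ(S, ⊤)) (x : X) (v : M.presheaf.stalk x) :
    stalkLin (q g M c) x v = 0 ↔ v ∈ (Ideal.span (Set.range c)).map (at' g x) • (⊤ : Submodule (X.presheaf.stalk x) (M.presheaf.stalk x)) := by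
  rw [Ideal.map_span, ← Set.range_comp]
  constructor
  · intro h
    obtain ⟨u, rfl⟩ := TFOne27.exact_stalk (f := fam g M c) (g := q g M c) (w := cokernel.condition _)
      (ShortComplex.exact_cokernel _) x v h
    rw [fam_stalk]
    exact sum_mem fun i _ => Submodule.smul_mem_smul (Ideal.subset_span ⟨i, rfl⟩) Submodule.mem_top
  · intro h
    obtain ⟨d, -, rfl⟩ := exists_rep _ _ h
    rw [map_sum]
    refine Finset.sum_eq_zero fun i _ => ?_
    rw [Function.comp_apply, ← stalkLin_mul, ← stalkLin_comp]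
    rw [show mul g M (c i) ≫ q g M c = biproduct.ι (fun _ : ι => M) i ≫ fam g M c ≫ q g M c by
      rw [fam, biproduct.ι_desc_assoc]]
    rw [cokernel.condition, comp_zero, stalkLin_zero]

theorem mono_of_stalk {M N : X.Modules} (f : M ⟶ N) (h : ∀ x v, stalkLin f x v = 0 → v = 0) : Mono f :=
  Preadditive.mono_of_kernel_zero (eq_zero_of_stalk _ fun x v => h x _ (by
    rw [← stalkLin_comp, kernel.condition, stalkLin_zero]))

variable {P : Scheme.{0}} (j : P ⟶ X) [IsPreimmersion j] {s : S}

/-- Pullback along `j` kills multiplication by functions vanishing at `s`. -/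
theorem pullback_fam_eq_zero (hker : ∀ z, (maximalIdeal (S.presheaf.stalk (g (j z)))).map (g.stalkMap (j z)).hom ≤
      RingHom.ker (j.stalkMap z).hom) (hs : ∀ z, g (j z) = s) (M : X.Modules) (c : ι → Γ(S, ⊤))
    (hc : ∀ i, S.presheaf.germ ⊤ s trivial (c i) ∈ maximalIdeal (S.presheaf.stalk s)) :
    (Scheme.Modules.pullback j).map (fam g M c) = 0 := by
  refine eq_zero_of_stalk _ fun z v => ?_
  obtain ⟨u, rfl⟩ := TFOne27.surjective_stalkUnit j _ z v
  rw [TFOne27.stalkUnit_natural, TFOne27.stalkUnit_eq_zero, fam_stalk]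
  refine sum_mem fun i _ => Submodule.smul_mem_smul (hker z (Ideal.mem_map_of_mem _ ?_)) Submodule.mem_top
  have : ∀ y, y = s → S.presheaf.germ ⊤ y trivial (c i) ∈ maximalIdeal (S.presheaf.stalk y) := by
    rintro y rfl; exact hc i
  exact this _ (hs z)

theorem isIso_pullback_q (hker : ∀ z, (maximalIdeal (S.presheaf.stalk (g (j z)))).map (g.stalkMap (j z)).hom ≤
      RingHom.ker (j.stalkMap z).hom) (hs : ∀ z, g (j z) = s) (M : X.Modules) (c : ι → Γ(S, ⊤))
    (hc : ∀ i, S.presheaf.germ ⊤ s trivial (c i) ∈ maximalIdeal (S.presheaf.stalk s)) :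
    IsIso ((Scheme.Modules.pullback j).map (q g M c)) := by
  haveI : (Scheme.Modules.pullback j).IsLeftAdjoint :=
    (Scheme.Modules.pullbackPushforwardAdjunction j).isLeftAdjoint
  let hc' := isColimitOfHasCokernelOfPreservesColimit (Scheme.Modules.pullback j) (fam g M c)
  have hw : (Scheme.Modules.pullback j).map (fam g M c) ≫ 𝟙 _ = 0 := by
    rw [pullback_fam_eq_zero g j hker hs M c hc, zero_comp]
  obtain ⟨l, hl⟩ := CokernelCofork.IsColimit.desc' hc' _ hw
  exact ⟨l, hl, Cofork.IsColimit.hom_ext hc' (by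
    show (Scheme.Modules.pullback j).map _ ≫ _ ≫ _ = (Scheme.Modules.pullback j).map _ ≫ _
    rw [← Category.assoc]
    exact (congrArg (· ≫ _) hl).trans ((Category.id_comp _).trans (Category.comp_id _).symm))⟩

theorem exists_gens [IsAffine S] [IsLocallyNoetherian S] (hs : IsClosed ({s} : Set S)) :
    ∃ I : Ideal Γ(S, ⊤), I.map (S.presheaf.germ ⊤ s trivial).hom = maximalIdeal (S.presheaf.stalk s) ∧
      ∀ y : S, y ≠ s → I.map (S.presheaf.germ ⊤ y trivial).hom = ⊤ := by
  refine ⟨(maximalIdeal (S.presheaf.stalk s)).comap (S.presheaf.germ ⊤ s trivial).hom, ?_, fun y hy => ?_⟩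
  · letI alg : Algebra Γ(S, ⊤) (S.presheaf.stalk s) := (S.presheaf.germ ⊤ s trivial).hom.toAlgebra
    haveI h : IsLocalization.AtPrime (S.presheaf.stalk s) ((isAffineOpen_top S).primeIdealOf ⟨s, trivial⟩).asIdeal :=
      (isAffineOpen_top S).isLocalization_stalk ⟨s, trivial⟩
    exact IsLocalization.map_under ((isAffineOpen_top S).primeIdealOf ⟨s, trivial⟩).asIdeal.primeCompl
      (S.presheaf.stalk s) (maximalIdeal (S.presheaf.stalk s))
  · obtain ⟨f, hf, hfy⟩ := (isAffineOpen_top S).exists_basicOpen_le (V := ⟨{s}ᶜ, hs.isOpen_compl⟩)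
      ⟨y, hy⟩ (Opens.mem_top y)
    refine Ideal.eq_top_of_isUnit_mem _ (Ideal.mem_map_of_mem _ ?_) ((S.mem_basicOpen f y trivial).mp hfy)
    exact (mem_maximalIdeal _).mpr fun hu => hf ((S.mem_basicOpen f s trivial).mpr hu) rfl

end Groth.Agent.SemiAb10.Rigid

end
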