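import Mathlib.RingTheory.Nakayama
import Mathlib.RingTheory.Flat.EquationalCriterion
import Mathlib.LinearAlgebra.FreeModule.Basic
import Mathlib.RingTheory.LocalRing.MaximalIdeal.Basic
import Mathlib.RingTheory.Jacobson.Ideal

/-!
# Coefficients of minimal generators of an ideal in a flat module
-/

set_option autoImplicit false

open IsLocalRing

namespace Groth.Agent.SemiAb10

variable {R A M : Type} [CommRing R] [CommRing A] [Algebra R A] [AddCommGroup M] [Module A M] {ι : Type} [Fintype ι]

/-- A subfamily of generators with no relation having a unit coefficient. -/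
theorem exists_indep_subset [IsLocalRing R] {n : ℕ} (c : Fin n → R) :
    ∃ s : Finset (Fin n), Ideal.span (c '' (s : Set (Fin n))) = Ideal.span (Set.range c) ∧
      ∀ d : s → R, ∑ j, d j * c j ∈ maximalIdeal R * Ideal.span (Set.range c) → ∀ j, d j ∈ maximalIdeal R := by
  classical
  let T := (Finset.univ : Finset (Finset (Fin n))).filter
    fun s : Finset (Fin n) => Ideal.span (c '' (s : Set (Fin n))) = Ideal.span (Set.range c)
  obtain ⟨s, hs, hmin⟩ := T.exists_min_image (fun s => s.card) ⟨Finset.univ, by simp [T]⟩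
  have hs' := (Finset.mem_filter.mp hs).2
  refine ⟨s, hs', fun d hd j => by_contra fun hj => ?_⟩
  have hu : IsUnit (d j) := by_contra fun h => hj ((mem_maximalIdeal _).mpr h)
  let N := Ideal.span (c '' ((s.erase j.1 : Finset (Fin n)) : Set (Fin n)))
  have hN : Ideal.span (Set.range c) ≤ N ⊔ maximalIdeal R • Ideal.span (Set.range c) := by
    have hj' : c j.1 ∈ N ⊔ maximalIdeal R • Ideal.span (Set.range c) := by
      have h1 : d j * c j.1 ∈ N ⊔ maximalIdeal R • Ideal.span (Set.range c) := by
        rw [← Finset.add_sum_erase Finset.univ (fun j : s => d j * c j) (Finset.mem_univ j)] at hd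
        have h2 : ∑ i ∈ Finset.univ.erase j, d i * c i.1 ∈ N := sum_mem fun i hi => by
          refine Ideal.mul_mem_left _ _ (Ideal.subset_span ⟨i.1, ?_, rfl⟩)
          exact Finset.mem_coe.mpr (Finset.mem_erase.mpr ⟨fun h => (Finset.mem_erase.mp hi).1 (Subtype.ext h), i.2⟩)
        have := Submodule.sub_mem (N ⊔ maximalIdeal R • Ideal.span (Set.range c))
          (Submodule.mem_sup_right hd) (Submodule.mem_sup_left h2)
        simpa using this
      exact ((N ⊔ maximalIdeal R • Ideal.span (Set.range c)).unit_mul_mem_iff_mem hu).mp h1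
    calc Ideal.span (Set.range c) = Ideal.span (c '' (s : Set (Fin n))) := hs'.symm
      _ ≤ _ := Ideal.span_le.mpr (by
        rintro _ ⟨i, hi, rfl⟩
        by_cases h : i = j.1
        · exact h ▸ hj'
        · exact Submodule.mem_sup_left (Ideal.subset_span ⟨i, Finset.mem_coe.mpr (Finset.mem_erase.mpr ⟨h, hi⟩), rfl⟩))
  have hle := Submodule.le_of_le_smul_of_le_jacobson_bot (Submodule.fg_span (Set.finite_range c))
    (maximalIdeal_le_jacobson ⊥) hN
  have h2 := hmin (s.erase j.1) (Finset.mem_filter.mpr ⟨Finset.mem_univ _,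
    le_antisymm (Ideal.span_mono (Set.image_subset_range _ _)) hle⟩)
  have h3 := Finset.card_erase_lt_of_mem j.2
  omega

theorem exists_rep (r : ι → A) (N : Submodule A M) {v : M} (h : v ∈ Ideal.span (Set.range r) • N) :
    ∃ g : ι → M, (∀ j, g j ∈ N) ∧ v = ∑ j, r j • g j := by
  refine Submodule.smul_induction_on h (fun a ha n hn => ?_) ?_
  · obtain ⟨d, rfl⟩ := (Submodule.mem_span_range_iff_exists_fun A).mp ha
    exact ⟨fun j => d j • n, fun j => N.smul_mem _ hn, by
      rw [Finset.sum_smul]
      exact Finset.sum_congr rfl fun j _ => by rw [smul_eq_mul, mul_comm, mul_smul]⟩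
  · rintro x y ⟨g, hg, rfl⟩ ⟨g', hg', rfl⟩
    exact ⟨g + g', fun j => N.add_mem (hg j) (hg' j), by simp [smul_add, Finset.sum_add_distrib]⟩

theorem coeff_mem_of_flat [IsLocalRing R] [Module R M] [IsScalarTower R A M] [Module.Flat R M] (r : ι → R)
    (hr : ∀ d : ι → R, ∑ j, d j * r j ∈ maximalIdeal R * Ideal.span (Set.range r) → ∀ j, d j ∈ maximalIdeal R)
    (f : ι → M)
    (h : ∑ j, algebraMap R A (r j) • f j ∈
      (maximalIdeal R * Ideal.span (Set.range r)).map (algebraMap R A) • (⊤ : Submodule A M)) (j : ι) :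
    f j ∈ (maximalIdeal R).map (algebraMap R A) • (⊤ : Submodule A M) := by
  rw [mul_comm, Ideal.map_mul, ← smul_eq_mul (α := Ideal A), Submodule.smul_assoc, Ideal.map_span, ← Set.range_comp] at h
  obtain ⟨g, hg, he⟩ := exists_rep _ _ h
  have h0 : ∑ j, r j • (f j - g j) = 0 := by
    simp only [smul_sub, Finset.sum_sub_distrib, sub_eq_zero]
    simpa [algebraMap_smul] using he
  obtain ⟨k, a, y, hy, ha⟩ := Module.Flat.isTrivialRelation_of_sum_smul_eq_zero h0
  have hm : f j - g j ∈ (maximalIdeal R).map (algebraMap R A) • (⊤ : Submodule A M) := by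
    rw [show f j - g j = _ from hy j]
    refine sum_mem fun l _ => ?_
    rw [← algebraMap_smul A (a j l) (y l)]
    refine Submodule.smul_mem_smul (Ideal.mem_map_of_mem _ (hr (fun i => a i l) ?_ j)) Submodule.mem_top
    simpa [mul_comm, ha l] using Ideal.zero_mem _
  simpa using add_mem hm (hg j)

theorem coeff_mem_of_section [IsLocalRing R] [IsLocalRing A] [Module.Free A M] {T : Type} [CommRing T] [IsLocalRing T]
    (σ : A →+* T) (hτ : Function.Bijective (σ.comp (algebraMap R A))) (r : ι → R)
    (hr : ∀ d : ι → R, ∑ j, d j * r j ∈ maximalIdeal R * Ideal.span (Set.range r) → ∀ j, d j ∈ maximalIdeal R)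
    (f : ι → M) {v w : M}
    (hv : v ∈ RingHom.ker σ • (⊤ : Submodule A M))
    (hw : w ∈ (maximalIdeal R * Ideal.span (Set.range r)).map (algebraMap R A) • (⊤ : Submodule A M))
    (h : v = ∑ j, algebraMap R A (r j) • f j + w) (j : ι) :
    f j ∈ maximalIdeal A • (⊤ : Submodule A M) := by
  let b := Module.Free.chooseBasis A M
  have key : ∀ (I : Ideal A) (u : M), u ∈ I • (⊤ : Submodule A M) → ∀ i, b.repr u i ∈ I := fun I u hu i => by
    refine Submodule.smul_induction_on hu (fun a ha n _ => ?_) fun x y hx hy => ?_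
    · rw [map_smul, Finsupp.smul_apply, smul_eq_mul]; exact I.mul_mem_right _ ha
    · rw [map_add, Finsupp.add_apply]; exact I.add_mem hx hy
  rw [← b.linearCombination_repr (f j), Finsupp.linearCombination_apply]
  refine sum_mem fun i _ => Submodule.smul_mem_smul ((mem_maximalIdeal _).mpr fun hu => ?_) Submodule.mem_top
  choose d hd using fun j => hτ.2 (σ (b.repr (f j) i))
  have h2 := congrArg (fun u => σ (b.repr u i)) h
  simp only [map_add, map_sum, map_smul, Finsupp.add_apply, Finset.sum_apply', Finsupp.smul_apply, smul_eq_mul,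
    map_mul] at h2
  rw [RingHom.mem_ker.mp (key _ _ hv i)] at h2
  have h3 : σ (b.repr w i) ∈ (maximalIdeal R * Ideal.span (Set.range r)).map (σ.comp (algebraMap R A)) := by
    rw [← Ideal.map_map]
    exact Ideal.mem_map_of_mem _ (key _ _ hw i)
  rw [Ideal.mem_map_iff_of_surjective _ hτ.2] at h3
  obtain ⟨m, hm, hm'⟩ := h3
  have h4 : ∑ j, d j * r j + m = 0 := hτ.1 (by
    rw [map_add, map_sum, map_zero, hm', h2]
    exact congrArg (· + _) (Finset.sum_congr rfl fun j _ => by rw [map_mul, hd, mul_comm]; rfl))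
  have h5 := hr d (by rw [eq_neg_of_add_eq_zero_left h4]; exact Ideal.neg_mem_iff _ |>.mpr hm) j
  exact h5 (isUnit_of_map_unit_aux hτ (hd j ▸ hu.map σ))
where
  isUnit_of_map_unit_aux {R T : Type} [CommRing R] [CommRing T] {τ : R →+* T} (hτ : Function.Bijective τ) {a : R}
      (h : IsUnit (τ a)) : IsUnit a := by
    have h' : IsUnit ((RingEquiv.ofBijective τ hτ) a) := h
    exact (MulEquiv.isUnit_map (RingEquiv.ofBijective τ hτ)).mp h'

end Groth.Agent.SemiAb10
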