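import Groth.Agent.Lib.SemiAb10.Rigid
import Groth.Agent.Lib.ModM1.LocFree
import Groth.Agent.Lib.ModM1.Pull

/-!
# The inductive step of rigidity
-/

set_option autoImplicit false
set_option linter.style.haveILetI false
set_option maxHeartbeats 2000000
set_option backward.isDefEq.respectTransparency false

open CategoryTheory CategoryTheory.Limits AlgebraicGeometry TopologicalSpace IsLocalRing

noncomputable section

namespace Groth.Agent.SemiAb10.Rigid

open Groth.Agent Groth.Agent.CurveCoh17

attribute [local instance] Abelian.hasFiniteBiproducts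

variable {S X P : Scheme.{0}}

theorem map_max_le {R T : Type} [CommRing R] [CommRing T] [IsLocalRing R] [IsLocalRing T] (f : R →+* T) [IsLocalHom f] :
    (maximalIdeal R).map f ≤ maximalIdeal T :=
  Ideal.map_le_iff_le_comap.mpr fun a ha => (mem_maximalIdeal _).mpr fun hu => (mem_maximalIdeal _).mp ha (hu.of_map f a)

/-- A morphism of flat modules, vanishing along a section, vanishes on a closed fibre if all such morphisms
between the restrictions to the fibre do. -/
theorem eq_zero_at [IsAffine S] [IsLocallyNoetherian S] [IsLocallyNoetherian X] (g : X ⟶ S) (ξ : S ⟶ X)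
    [IsPreimmersion ξ] (hξ : ξ ≫ g = 𝟙 S) (j : P ⟶ X) [IsPreimmersion j] {s : S} (hs : IsClosed ({s} : Set S))
    (hr : ∀ x, g x = s ↔ x ∈ Set.range j)
    (hker : ∀ z, RingHom.ker (j.stalkMap z).hom =
      (maximalIdeal (S.presheaf.stalk (g (j z)))).map (g.stalkMap (j z)).hom)
    {E F : X.Modules} (hF : Coh.IsCoh F) (hfl : FlatMod.IsFlatOver g F)
    [hfree : Module.Free (X.presheaf.stalk (ξ s)) (F.presheaf.stalk (ξ s))]
    (φ : E ⟶ F) (hφ : (Scheme.Modules.pullback ξ).map φ = 0)
    (H : ∀ ψ : (Scheme.Modules.pullback j).obj E ⟶ (Scheme.Modules.pullback j).obj F,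
      (∀ z, j z = ξ s → ∀ v, stalkLin ψ z v ∈ maximalIdeal (P.presheaf.stalk z) • (⊤ : Submodule (P.presheaf.stalk z) _)) →
        ψ = 0)
    (x : X) (hx : g x = s) (v : E.presheaf.stalk x) : stalkLin φ x v = 0 := by
  classical
  haveI : IsNoetherianRing Γ(S, ⊤) := IsLocallyNoetherian.component_noetherian ⟨⊤, isAffineOpen_top S⟩
  obtain ⟨I, hIs, hIy⟩ := exists_gens (S := S) hs
  have hker' : ∀ z, (maximalIdeal (S.presheaf.stalk (g (j z)))).map (g.stalkMap (j z)).hom ≤
      RingHom.ker (j.stalkMap z).hom := fun z => (hker z).ge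
  have hjs : ∀ z, g (j z) = s := fun z => (hr _).mpr ⟨z, rfl⟩
  have hIy' : ∀ y : S, y = s → I.map (S.presheaf.germ ⊤ y trivial).hom = maximalIdeal (S.presheaf.stalk y) := by
    rintro y rfl; exact hIs
  have hat : ∀ (y : X) (J : Ideal Γ(S, ⊤)), J.map (at' g y) =
      (J.map (S.presheaf.germ ⊤ (g y) trivial).hom).map (g.stalkMap y).hom :=
    fun y J => (Ideal.map_map _ _).symm
  have hoff : ∀ (y : X), g y ≠ s → ∀ n : ℕ, (I ^ n).map (at' g y) = ⊤ := fun y hy n => by
    rw [hat, Ideal.map_pow, hIy _ hy, Ideal.top_pow, Ideal.map_top]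
  suffices main : ∀ k : ℕ, ∀ y, g y = s → ∀ w : E.presheaf.stalk y,
      stalkLin φ y w ∈ (I ^ k).map (at' g y) • (⊤ : Submodule (X.presheaf.stalk y) (F.presheaf.stalk y)) by
    haveI := M1.finite_stalk hF.1 hF.2 x
    have hle : ∀ k : ℕ, (I ^ k).map (at' g x) ≤ maximalIdeal (X.presheaf.stalk x) ^ k := fun k => by
      rw [Ideal.map_pow, hat, hIy' _ hx]
      exact Ideal.pow_right_mono (map_max_le (g.stalkMap x).hom) k
    have h0 : stalkLin φ x v ∈ ⨅ k : ℕ, maximalIdeal (X.presheaf.stalk x) ^ k •
        (⊤ : Submodule (X.presheaf.stalk x) (F.presheaf.stalk x)) :=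
      Submodule.mem_iInf _ |>.mpr fun k => Submodule.smul_mono_left (hle k) (main k x hx v)
    rwa [Ideal.iInf_pow_smul_eq_bot_of_isLocalRing _ (maximalIdeal.isMaximal _).ne_top, Submodule.mem_bot] at h0
  intro k
  induction k with
  | zero =>
    intro y _ w
    rw [pow_zero, Ideal.one_eq_top, Ideal.map_top]
    simp
  | succ k ih =>
    obtain ⟨na, a, ha⟩ := Submodule.fg_iff_exists_fin_generating_family.mp (IsNoetherian.noetherian I)
    obtain ⟨nc, c, hc⟩ := Submodule.fg_iff_exists_fin_generating_family.mp (IsNoetherian.noetherian (I ^ k))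
    obtain ⟨nb, b, hb⟩ := Submodule.fg_iff_exists_fin_generating_family.mp (IsNoetherian.noetherian (I ^ (k + 1)))
    obtain ⟨sub, hsub, hindep⟩ := exists_indep_subset (fun i => S.presheaf.germ ⊤ s trivial (c i))
    let r : sub → Γ(S, ⊤) := fun i => c i
    have hrI : ∀ i, r i ∈ I ^ k := fun i => hc ▸ Submodule.subset_span ⟨i.1, rfl⟩
    have hgen : ∀ y, y = s → Ideal.span (Set.range fun i : sub => S.presheaf.germ ⊤ y trivial (r i)) =
        (I ^ k).map (S.presheaf.germ ⊤ y trivial).hom ∧
        ∀ d : sub → S.presheaf.stalk y, ∑ i, d i * S.presheaf.germ ⊤ y trivial (r i) ∈ maximalIdeal _ *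
            Ideal.span (Set.range fun i : sub => S.presheaf.germ ⊤ y trivial (r i)) →
          ∀ i, d i ∈ maximalIdeal _ := by
      intro y hy; cases hy
      have h1 : Ideal.span (Set.range fun i : sub => S.presheaf.germ ⊤ s trivial (r i)) =
          Ideal.span (Set.range fun i => S.presheaf.germ ⊤ s trivial (c i)) := by
        rw [← hsub]
        congr 1
        ext z
        simp [r]
      refine ⟨h1.trans ?_, fun d hd => hindep d (h1 ▸ hd)⟩
      rw [← hc, Ideal.submodule_span_eq, Ideal.map_span, ← Set.range_comp]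
      rfl
    have hnext : ∀ y, g y = s → (I ^ (k + 1)).map (at' g y) =
        (maximalIdeal (S.presheaf.stalk (g y)) * Ideal.span (Set.range fun i : sub =>
          S.presheaf.germ ⊤ (g y) trivial (r i))).map (g.stalkMap y).hom := fun y hy => by
      rw [hat, (hgen _ hy).1, pow_succ', Ideal.map_mul, hIy' _ hy]
    have ha' : Ideal.span (Set.range a) = I := ha
    have hb' : Ideal.span (Set.range b) = I ^ (k + 1) := hb
    let ρ' : sub → (Q g F a ⟶ Q g F b) := fun i => cokernel.desc _ (mul g F (r i) ≫ q g F b)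
      (biproduct.hom_ext' _ _ fun l => by
        rw [fam, biproduct.ι_desc_assoc, comp_zero]
        refine eq_zero_of_stalk _ fun y u => ?_
        rw [stalkLin_comp, stalkLin_comp, q_stalk_eq_zero, stalkLin_mul, stalkLin_mul, smul_smul, ← map_mul, hb']
        refine Submodule.smul_mem_smul (Ideal.mem_map_of_mem _ ?_) Submodule.mem_top
        rw [pow_succ]
        exact Ideal.mul_mem_mul (hrI i) (ha' ▸ Ideal.subset_span ⟨l, rfl⟩))
    have hρ' : ∀ i (y : X) (u : F.presheaf.stalk y),
        stalkLin (ρ' i) y (stalkLin (q g F a) y u) = stalkLin (q g F b) y (at' g y (r i) • u) := fun i y u => by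
      rw [← stalkLin_comp, cokernel.π_desc, stalkLin_comp, stalkLin_mul]
    let ρ : (⨁ fun _ : sub => Q g F a) ⟶ Q g F b := biproduct.desc ρ'
    let π := fun i => biproduct.π (fun _ : sub => Q g F a) i
    have hρ : ∀ (y : X) u (f : sub → F.presheaf.stalk y), (∀ i, stalkLin (π i) y u = stalkLin (q g F a) y (f i)) →
        stalkLin ρ y u = stalkLin (q g F b) y (∑ i, at' g y (r i) • f i) := fun y u f hf => by
      conv_lhs => rw [stalk_biproduct (fun _ : sub => Q g F a) y u]
      rw [map_sum, map_sum]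
      refine Finset.sum_congr rfl fun i _ => ?_
      rw [← stalkLin_comp, biproduct.ι_desc, ← hρ']
      exact congrArg (stalkLin (ρ' i) y) (hf i)
    haveI : Mono ρ := mono_of_stalk ρ fun y u hu => by
      rw [stalk_biproduct (fun _ : sub => Q g F a) y u]
      refine Finset.sum_eq_zero fun i _ => ?_
      choose f hf using fun l => q_stalk_surjective g F a y (stalkLin (π l) y u)
      rw [hρ y u f fun l => (hf l).symm, q_stalk_eq_zero, hb'] at hu
      rw [show stalkLin (biproduct.π (fun _ : sub => Q g F a) i) y u = 0 from ?_, map_zero]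
      rw [← hf i, q_stalk_eq_zero, ha']
      by_cases hy : g y = s
      · letI : Algebra (S.presheaf.stalk (g y)) (X.presheaf.stalk y) := (g.stalkMap y).hom.toAlgebra
        letI : Module (S.presheaf.stalk (g y)) (F.presheaf.stalk y) := FlatMod.moduleStalkOver g F y
        haveI : IsScalarTower (S.presheaf.stalk (g y)) (X.presheaf.stalk y) (F.presheaf.stalk y) :=
          IsScalarTower.of_algebraMap_smul fun _ _ => rfl
        haveI : Module.Flat (S.presheaf.stalk (g y)) (F.presheaf.stalk y) := hfl y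
        rw [hat, hIy' _ hy]
        exact coeff_mem_of_flat (R := S.presheaf.stalk (g y)) (A := X.presheaf.stalk y)
          (fun i => S.presheaf.germ ⊤ (g y) trivial (r i)) (hgen _ hy).2 f (by rw [hnext y hy] at hu; exact hu) i
      · rw [show I = I ^ 1 from (pow_one I).symm, hoff y hy, Submodule.top_smul]
        trivial
    have hfac : (φ ≫ q g F b) ≫ cokernel.π ρ = 0 := eq_zero_of_stalk _ fun y w => by
      rw [stalkLin_comp, stalkLin_comp]
      by_cases hy : g y = s
      · have h1 := ih y hy w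
        rw [hat, ← (hgen _ hy).1, Ideal.map_span, ← Set.range_comp] at h1
        obtain ⟨f, -, hf⟩ := exists_rep _ _ h1
        rw [hf, map_sum, map_sum]
        refine Finset.sum_eq_zero fun i _ => ?_
        rw [show ((g.stalkMap y).hom ∘ fun i : sub => S.presheaf.germ ⊤ (g y) trivial (r i)) i = at' g y (r i) from rfl,
          ← hρ', ← stalkLin_comp,
          show ρ' i ≫ cokernel.π ρ = biproduct.ι (fun _ : sub => Q g F a) i ≫ ρ ≫ cokernel.π ρ by
            rw [biproduct.ι_desc_assoc], cokernel.condition, comp_zero, stalkLin_zero]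
      · rw [(q_stalk_eq_zero g F b y _).mpr (by rw [hb', hoff y hy, Submodule.top_smul]; trivial), map_zero]
    let ψ := Abelian.monoLift ρ _ hfac
    have hψ : ψ ≫ ρ = φ ≫ q g F b := Abelian.monoLift_comp ρ _ hfac
    have ha0 : ∀ i, S.presheaf.germ ⊤ s trivial (a i) ∈ maximalIdeal (S.presheaf.stalk s) := fun i =>
      hIs ▸ Ideal.mem_map_of_mem _ (ha' ▸ Ideal.subset_span ⟨i, rfl⟩)
    haveI := isIso_pullback_q g j hker' hjs F a ha0
    have hzero : ∀ i, (Scheme.Modules.pullback j).map (ψ ≫ π i) ≫ inv ((Scheme.Modules.pullback j).map (q g F a)) = 0 := by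
      refine fun i => H _ fun z hz w => ?_
      obtain ⟨e, rfl⟩ := TFOne27.surjective_stalkUnit j E z w
      choose f hf using fun l => q_stalk_surjective g F a (j z) (stalkLin (ψ ≫ π l) (j z) e)
      have h1 : stalkLin ρ (j z) (stalkLin ψ (j z) e) = stalkLin (q g F b) (j z) (stalkLin φ (j z) e) := by
        rw [← stalkLin_comp, hψ, stalkLin_comp]
      rw [hρ (j z) _ f fun l => by rw [hf l, stalkLin_comp]] at h1
      rw [stalkLin_comp, TFOne27.stalkUnit_natural, ← hf i, ← TFOne27.stalkUnit_natural, ← stalkLin_comp,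
        IsIso.hom_inv_id]
      show stalkLin (𝟙 _) z _ ∈ _
      rw [show ∀ u, stalkLin (𝟙 ((Scheme.Modules.pullback j).obj F)) z u = u from
        fun u => ConcreteCategory.congr_hom ((M1.stalkAb z).map_id _) u]
      have key : ∀ (y : X) (hy : y = ξ s) (e : E.presheaf.stalk y) (f : sub → F.presheaf.stalk y),
          stalkLin φ y e - ∑ l, at' g y (r l) • f l ∈ (I ^ (k + 1)).map (at' g y) • (⊤ : Submodule (X.presheaf.stalk y) (F.presheaf.stalk y)) →
          f i ∈ maximalIdeal (X.presheaf.stalk y) • (⊤ : Submodule (X.presheaf.stalk y) (F.presheaf.stalk y)) := by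
        intro y hy e f he; cases hy
        have hgs : g (ξ s) = s := by rw [← Scheme.Hom.comp_apply, hξ]; rfl
        letI : Algebra (S.presheaf.stalk (g (ξ s))) (X.presheaf.stalk (ξ s)) := (g.stalkMap (ξ s)).hom.toAlgebra
        refine coeff_mem_of_section (R := S.presheaf.stalk (g (ξ s))) (ξ.stalkMap s).hom ?_
          (fun l => S.presheaf.germ ⊤ (g (ξ s)) trivial (r l)) (hgen _ hgs).2 f (v := stalkLin φ (ξ s) e)
          (w := stalkLin φ (ξ s) e - ∑ l, at' g (ξ s) (r l) • f l) ?_ (by rw [hnext _ hgs] at he; exact he) ?_ i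
        · have h2 := Scheme.Hom.stalkMap_comp ξ g s
          rw [show ((ξ.stalkMap s).hom.comp (algebraMap (S.presheaf.stalk (g (ξ s))) (X.presheaf.stalk (ξ s)))) =
            ((ξ ≫ g).stalkMap s).hom from (congrArg CommRingCat.Hom.hom h2).symm]
          haveI : IsIso (ξ ≫ g) := by rw [hξ]; infer_instance
          exact ConcreteCategory.bijective_of_isIso ((ξ ≫ g).stalkMap s)
        · rw [← TFOne27.stalkUnit_eq_zero, ← TFOne27.stalkUnit_natural, hφ, stalkLin_zero]
        · exact (add_sub_cancel _ _).symm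
      have h2 := key (j z) hz e f (by
        rw [← hb', ← q_stalk_eq_zero, map_sub, h1, sub_self])
      refine Submodule.smul_induction_on h2 (fun r' hr' n _ => ?_) fun u u' hu hu' => by
        rw [map_add]; exact add_mem hu hu'
      rw [TFOne27.stalkUnit_smul]
      exact Submodule.smul_mem_smul
        (map_max_le (j.stalkMap z).hom (Ideal.mem_map_of_mem _ hr')) Submodule.mem_top
    have hzero' : ∀ i y, g y = s → ∀ e, stalkLin (ψ ≫ π i) y e = 0 := fun i y hy e => by
      obtain ⟨z, rfl⟩ := (hr y).mp hy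
      have hp : (Scheme.Modules.pullback j).map (ψ ≫ π i) = 0 := by
        rw [← cancel_mono (inv ((Scheme.Modules.pullback j).map (q g F a))), hzero i, zero_comp]
      have h3 := TFOne27.stalkUnit_natural j (ψ ≫ π i) z e
      rw [hp, stalkLin_zero, eq_comm, TFOne27.stalkUnit_eq_zero, hker z] at h3
      obtain ⟨f, hf⟩ := q_stalk_surjective g F a (j z) (stalkLin (ψ ≫ π i) (j z) e)
      refine Submodule.smul_induction_on h3 (fun r' hr' u _ => ?_) fun u u' hu hu' => by rw [hu, hu', add_zero]
      obtain ⟨u', rfl⟩ := q_stalk_surjective g F a (j z) u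
      rw [← map_smul, q_stalk_eq_zero, ha', hat, hIy' _ (hjs z)]
      exact Submodule.smul_mem_smul hr' Submodule.mem_top
    intro y hy w
    rw [← hb', ← q_stalk_eq_zero, ← stalkLin_comp, ← hψ, stalkLin_comp,
      hρ y _ 0 fun i => by rw [← stalkLin_comp, hzero' i y hy w, Pi.zero_apply, map_zero]]
    simp

end Groth.Agent.SemiAb10.Rigid

end
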